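import Mathlib
import Cfsg.Prelude.Def_OddOrderLocal
import Cfsg.Agent.S1453
import Cfsg.Agent.Lib.Helper31.BG.PComp
import Cfsg.Agent.Lib.Helper23.PGroupEA
import Cfsg.Agent.Lib.Helper20.BG.S1408Core
import Cfsg.Agent.Lib.Helper78.BG.S1405Core
import Cfsg.Agent.Lib.Helper91.Coprime2

/-!
Bender–Glauberman: for `p ∈ σ(M)` and `X ≤ M` of order `p` with `p ∈ β(M)` or `X ≤ (M_σ)'`,
`M` is the unique maximal subgroup containing `C_G(X)`, and the Sylow `p`-subgroups of `M_σ`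
are uniqueness subgroups (statement S1423).  Earlier statements of the chain are hypotheses.
-/

set_option autoImplicit false

namespace Cfsg.Agent.Lib.Helper31.BG

open Cfsg Cfsg.Agent.Lib.Helper46 Cfsg.Agent.Lib.Helper35.BG
open scoped commutatorElement

theorem eq_of_inUniqueMaximal {G : Type*} [Group G] {D M L : Subgroup G}
    (hD : InUniqueMaximal D) (hM : IsCoatom M) (hDM : D ≤ M) (hL : IsCoatom L) (hDL : D ≤ L) :
    L = M :=
  hD.unique ⟨hL, hDL⟩ ⟨hM, hDM⟩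

theorem commutator_self_eq_bot_of_comm {G : Type*} [Group G] (Q : Subgroup G)
    (h : IsMulCommutative Q) : ⁅Q, Q⁆ = ⊥ := by
  rw [Subgroup.commutator_eq_bot_iff_le_centralizer]
  intro a ha
  rw [Subgroup.mem_centralizer_iff]
  intro b hb
  exact congrArg Subtype.val ((isMulCommutative_iff.mp h) ⟨b, hb⟩ ⟨a, ha⟩)

/-- A `p`-subgroup of `p`-rank at least 3 is a uniqueness subgroup (from the Uniqueness Theorem). -/
theorem rank3_unique {G : Type*} [Group G] [Finite G] (hG : Cfsg.IsMinSimpleOddOrder G)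
    (h1403 : ∀ (K : Subgroup G), K ≠ ⊤ → ¬ Cfsg.RankLE 1 K →
      (¬ Cfsg.RankLE 2 K ∨ ¬ Cfsg.RankLE 2 (Subgroup.centralizer (K : Set G))) →
        Cfsg.InUniqueMaximal K)
    (p : ℕ) [hp : Fact p.Prime] (K : Subgroup G) (hK : IsPGroup p K)
    (hr : ¬ Cfsg.PRankLE p 2 ↥K) : Cfsg.InUniqueMaximal K := by
  apply h1403 K (Cfsg.Agent.Lib.Helper9.BG.isPGroup_ne_top' hG hK)
  · exact not_rankLE_of_not_pRankLE
      (fun h => hr (pRankLE_mono hp.out.pos (by norm_num) h))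
  · exact Or.inl (not_rankLE_of_not_pRankLE hr)

/-- An elementary abelian `p`-subgroup of order greater than `p ^ 2` is a uniqueness subgroup. -/
theorem ea_unique {G : Type*} [Group G] [Finite G] (hG : Cfsg.IsMinSimpleOddOrder G)
    (h1403 : ∀ (K : Subgroup G), K ≠ ⊤ → ¬ Cfsg.RankLE 1 K →
      (¬ Cfsg.RankLE 2 K ∨ ¬ Cfsg.RankLE 2 (Subgroup.centralizer (K : Set G))) →
        Cfsg.InUniqueMaximal K)
    (p : ℕ) [hp : Fact p.Prime] (D : Subgroup G) (hD : Cfsg.IsElementaryAbelian p D)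
    (hcard : p ^ 2 < Nat.card D) : Cfsg.InUniqueMaximal D :=
  rank3_unique hG h1403 p D (Cfsg.Agent.Lib.Helper20.BG.isPGroup_of_ea hD)
    (Cfsg.Agent.Lib.Helper23.not_pRankLE_of_le p hD le_rfl hcard)

/-- If `X` of order `p` is not central in the `p`-group `Q ≥ X`, then `X` together with a central
subgroup of order `p` of `Q` generates an elementary abelian subgroup of order `p ^ 2`. -/
theorem exists_ea_sq_with_central {G : Type*} [Group G] [Finite G] {p : ℕ} [hp : Fact p.Prime]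
    {Q X : Subgroup G} (hQ : IsPGroup p Q) (hXQ : X ≤ Q) (hX : Nat.card X = p)
    (hXZ : ¬ X ≤ Subgroup.centralizer (Q : Set G)) :
    ∃ Z₁ : Subgroup G, Z₁ ≤ Q ∧ Z₁ ≤ Subgroup.centralizer (Q : Set G) ∧
      (∀ a ∈ X, ∀ b ∈ Z₁, a * b = b * a) ∧
      Cfsg.IsElementaryAbelian p (X ⊔ Z₁) ∧ Nat.card (X ⊔ Z₁ : Subgroup G) = p ^ 2 := by
  have hpp : p.Prime := hp.out
  have hQnt : Nontrivial ↥Q := by
    have hXnt : Nontrivial ↥X := Finite.one_lt_card_iff_nontrivial.mp (by rw [hX]; exact hpp.one_lt)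
    obtain ⟨⟨x, hx⟩, hx1⟩ := exists_ne (1 : ↥X)
    refine ⟨⟨⟨x, hXQ hx⟩, 1, ?_⟩⟩
    intro h
    apply hx1
    have h' : x = 1 := congrArg Subtype.val h
    exact Subtype.ext h'
  obtain ⟨z, hz, hzo⟩ := Cfsg.Agent.Lib.Helper23.exists_central_orderOf_eq p hQ
  have hzo' : orderOf (z : G) = p := by rw [Subgroup.orderOf_coe]; exact hzo
  have hZcard : Nat.card (Subgroup.zpowers (z : G)) = p := by rw [Nat.card_zpowers, hzo']
  have hZQ : Subgroup.zpowers (z : G) ≤ Q := Subgroup.zpowers_le.mpr z.2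
  have hZc : Subgroup.zpowers (z : G) ≤ Subgroup.centralizer (Q : Set G) := by
    rw [Subgroup.zpowers_le, Subgroup.mem_centralizer_iff]
    intro y hy
    have h1 := (Subgroup.mem_center_iff.mp hz) ⟨y, hy⟩
    exact congrArg Subtype.val h1
  have hcomm : ∀ a ∈ X, ∀ b ∈ Subgroup.zpowers (z : G), a * b = b * a := by
    intro a ha b hb
    exact (Subgroup.mem_centralizer_iff.mp (hZc hb)) a (hXQ ha)
  have hdisj : X ⊓ Subgroup.zpowers (z : G) = ⊥ := by
    have hdvd : Nat.card (X ⊓ Subgroup.zpowers (z : G) : Subgroup G) ∣ p := by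
      rw [← hX]; exact Subgroup.card_dvd_of_le inf_le_left
    rcases (Nat.dvd_prime hpp).mp hdvd with h1 | h1
    · exact Subgroup.card_eq_one.mp h1
    · exfalso
      apply hXZ
      have h2 : X ⊓ Subgroup.zpowers (z : G) = X :=
        Subgroup.eq_of_le_of_card_ge inf_le_left (by rw [h1, hX])
      have h3 : X ≤ Subgroup.zpowers (z : G) := by
        rw [← h2]; exact inf_le_right
      exact h3.trans hZc
  have hnorm : Subgroup.zpowers (z : G) ≤ Subgroup.normalizer (X : Set G) :=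
    (hZc.trans (Subgroup.centralizer_le hXQ)).trans (centralizer_le_normalizer' X)
  have hcard := Cfsg.Agent.Lib.Helper91.card_sup_mul_card_inf_of_le_normalizer X
    (Subgroup.zpowers (z : G)) hnorm
  rw [hdisj, Subgroup.card_bot, mul_one, hX, hZcard] at hcard
  refine ⟨Subgroup.zpowers (z : G), hZQ, hZc, hcomm, ?_, ?_⟩
  · exact Cfsg.Agent.Lib.Helper23.isEA_sup (Cfsg.Agent.Lib.Helper20.BG.ea_of_card_prime hX)
      (Cfsg.Agent.Lib.Helper20.BG.ea_of_card_prime hZcard) hcomm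
  · rw [hcard, sq]

/-- Let `S` be a Sylow `p`-subgroup of `G` and `X ≤ S'` of order `p`.  Then `C_G(X)` contains a
uniqueness subgroup contained in `S`. -/
theorem exists_uniq_centralized {G : Type*} [Group G] [Finite G] (hG : Cfsg.IsMinSimpleOddOrder G)
    (h1403 : ∀ (K : Subgroup G), K ≠ ⊤ → ¬ Cfsg.RankLE 1 K →
      (¬ Cfsg.RankLE 2 K ∨ ¬ Cfsg.RankLE 2 (Subgroup.centralizer (K : Set G))) →
        Cfsg.InUniqueMaximal K)
    (h1412 : ∀ (p : ℕ) [Fact p.Prime] (P : Sylow p G), Cfsg.PRankLE p 2 (P : Subgroup G) →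
      IsMulCommutative (P : Subgroup G) ∨ ∃ P₁ P₂ : Subgroup G, P₁ ⊔ P₂ = (P : Subgroup G) ∧
        (∀ a ∈ P₁, ∀ b ∈ P₂, a * b = b * a) ∧
        ¬ IsMulCommutative P₁ ∧ Nat.card P₁ = p ^ 3 ∧ Monoid.exponent P₁ = p ∧ IsCyclic P₂ ∧
        Subgroup.closure {x : G | x ∈ P₂ ∧ x ^ p = 1} = P₁ ⊓ Subgroup.centralizer (P₁ : Set G))
    (h1422 : ∀ (p : ℕ) [Fact p.Prime] (P : Subgroup G), IsPGroup p P → ¬ IsMulCommutative P →
      Cfsg.InUniqueMaximal P)
    (p : ℕ) [hp : Fact p.Prime] (S : Sylow p G) (X : Subgroup G) (hX : Nat.card X = p)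
    (hXS : X ≤ ⁅(S : Subgroup G), (S : Subgroup G)⁆) :
    ∃ D : Subgroup G, D ≤ (S : Subgroup G) ∧ Cfsg.InUniqueMaximal D ∧
      D ≤ Subgroup.centralizer (X : Set G) := by
  classical
  have hpp : p.Prime := hp.out
  obtain ⟨Q, hQdef⟩ : ∃ Q : Subgroup G, Q = (S : Subgroup G) := ⟨_, rfl⟩
  rw [← hQdef] at hXS ⊢
  have hQp : IsPGroup p Q := hQdef ▸ S.isPGroup'
  have hXQ : X ≤ Q := hXS.trans (Subgroup.commutator_le_self Q)
  have hXne : X ≠ ⊥ := by
    intro h0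
    rw [h0, Subgroup.card_bot] at hX
    exact hpp.one_lt.ne hX
  have hQna : ¬ IsMulCommutative Q := by
    intro hc
    apply hXne
    rw [commutator_self_eq_bot_of_comm Q hc] at hXS
    exact le_bot_iff.mp hXS
  have hp2 : p ≠ 2 := by
    rintro rfl
    have h2 : 2 ∣ Nat.card G := by
      have := Subgroup.card_subgroup_dvd_card X
      rwa [hX] at this
    exact (Nat.not_even_iff_odd.mpr hG.1) (even_iff_two_dvd.mpr h2)
  have hXe := Cfsg.Agent.Lib.Helper20.BG.ea_of_card_prime hX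
  by_cases hXZ : X ≤ Subgroup.centralizer (Q : Set G)
  · exact ⟨Q, le_rfl, h1422 p Q hQp hQna, Subgroup.le_centralizer_iff.mp hXZ⟩
  obtain ⟨C, hCdef⟩ : ∃ C : Subgroup G, C = Q ⊓ Subgroup.centralizer (X : Set G) := ⟨_, rfl⟩
  have hCQ : C ≤ Q := hCdef ▸ inf_le_left
  have hCX : C ≤ Subgroup.centralizer (X : Set G) := hCdef ▸ inf_le_right
  have hCp : IsPGroup p C := hQp.to_le hCQ
  by_cases hC : IsMulCommutative C
  swap
  · exact ⟨C, hCQ, h1422 p C hCp hC, hCX⟩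
  by_cases hr : Cfsg.PRankLE p 2 ↥C
  swap
  · obtain ⟨D, hDe, hDC, hDcard⟩ := Cfsg.Agent.Lib.Helper23.exists_EA_of_not_pRankLE p hr
    exact ⟨D, hDC.trans hCQ, ea_unique hG h1403 p D hDe hDcard, hDC.trans hCX⟩
  exfalso
  obtain ⟨Z₁, hZQ, hZc, hcommXZ, hAe, hAcard⟩ := exists_ea_sq_with_central hQp hXQ hX hXZ
  have hAQ : X ⊔ Z₁ ≤ Q := sup_le hXQ hZQ
  have hXX : X ≤ Subgroup.centralizer (X : Set G) := by
    intro x hx
    rw [Subgroup.mem_centralizer_iff]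
    intro y hy
    exact Cfsg.Agent.Lib.Helper20.BG.ea_comm hXe y hy x hx
  have hmax : ∀ B : Subgroup G, B ≤ Q → Cfsg.IsElementaryAbelian p B → X ⊔ Z₁ ≤ B →
      B = X ⊔ Z₁ := by
    intro B hBQ hBe hAB
    have hBC : B ≤ C := by
      rw [hCdef]
      refine le_inf hBQ ?_
      intro b hb
      rw [Subgroup.mem_centralizer_iff]
      intro x hx
      exact Cfsg.Agent.Lib.Helper20.BG.ea_comm hBe x (hAB (Subgroup.mem_sup_left hx)) b hb
    have hle := (Cfsg.Agent.Lib.Helper24.pRankLE_subgroup_iff p 2 C).mp hr B hBC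
      (Cfsg.Agent.Lib.Helper20.BG.ea_comm hBe) hBe.2
    exact (Subgroup.eq_of_le_of_card_ge hAB (by rw [hAcard]; exact hle)).symm
  by_cases hrQ : Cfsg.PRankLE p 2 ↥Q
  · have hrS : Cfsg.PRankLE p 2 (S : Subgroup G) := hQdef ▸ hrQ
    rcases h1412 p S hrS with hab | ⟨P₁, P₂, hsup, hcomm, -, hcard, -, hcyc, -⟩
    · exact hQna (hQdef ▸ hab)
    · apply hXZ
      intro x hx
      rw [Subgroup.mem_centralizer_iff]
      intro y hy
      exact (commutator_central_of_cprod p Q P₁ P₂ (hsup.trans hQdef.symm) hcomm hcard hcyc x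
        (hXS hx) y hy).symm
  · -- the narrow case, via S1453
    have hE : Cfsg.IsElementaryAbelian p ((X ⊔ Z₁).subgroupOf Q) := by
      refine ⟨?_, ?_⟩
      · rw [isMulCommutative_iff]
        intro a b
        apply Subtype.ext
        apply Subtype.ext
        exact Cfsg.Agent.Lib.Helper20.BG.ea_comm hAe _ (Subgroup.mem_subgroupOf.mp a.2) _
          (Subgroup.mem_subgroupOf.mp b.2)
      · intro a ha
        apply Subtype.ext
        exact hAe.2 _ (Subgroup.mem_subgroupOf.mp ha)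
    have hE2 : Nat.card ((X ⊔ Z₁).subgroupOf Q) = p ^ 2 := by
      rw [Nat.card_congr (Subgroup.subgroupOfEquivOfLe hAQ).toEquiv]; exact hAcard
    have hEmax : ∀ B : Subgroup ↥Q, Cfsg.IsElementaryAbelian p B → (X ⊔ Z₁).subgroupOf Q ≤ B →
        B = (X ⊔ Z₁).subgroupOf Q := by
      intro B hBe hEB
      have hB0e : Cfsg.IsElementaryAbelian p (B.map Q.subtype) := by
        refine ⟨?_, ?_⟩
        · have hBc := hBe.1
          infer_instance
        · rintro _ ⟨b, hb, rfl⟩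
          exact congrArg Subtype.val (hBe.2 b hb)
      have hAB0 : X ⊔ Z₁ ≤ B.map Q.subtype := by
        intro a ha
        exact ⟨⟨a, hAQ ha⟩, hEB (Subgroup.mem_subgroupOf.mpr ha), rfl⟩
      have h1 := hmax (B.map Q.subtype) (Subgroup.map_subtype_le B) hB0e hAB0
      have h2 : (B.map Q.subtype).subgroupOf Q = B :=
        Subgroup.comap_map_eq_self_of_injective Q.subtype_injective B
      rw [← h2, h1]
    have h53 := Cfsg.Agent.S1453.result (R := ↥Q) p hp2 hQp hrQ ((X ⊔ Z₁).subgroupOf Q) hE hE2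
      hEmax
    obtain ⟨hnot, -, -, hchar, hidx⟩ := h53
    apply hnot
    have hcomT := commutator_le_of_index_prime _ hidx
    intro e he
    have he' : (e : G) ∈ X ⊔ Z₁ := Subgroup.mem_subgroupOf.mp he
    obtain ⟨x, hx, z, hz, hxz⟩ := Cfsg.Agent.Lib.Helper23.mem_sup_of_commute X Z₁ hcommXZ he'
    have e1 : e = (⟨x, hXQ hx⟩ : ↥Q) * ⟨z, hZQ hz⟩ := Subtype.ext hxz
    rw [e1]
    apply Subgroup.mul_mem
    · apply hcomT
      have hxc : x ∈ ⁅Q, Q⁆ := hXS hx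
      rw [← Subgroup.map_subtype_commutator] at hxc
      obtain ⟨x', hx', hxx'⟩ := hxc
      have e2 : x' = ⟨x, hXQ hx⟩ := Subtype.ext hxx'
      rw [← e2]; exact hx'
    · apply Subgroup.center_le_centralizer
      rw [Subgroup.mem_center_iff]
      intro g
      apply Subtype.ext
      exact (Subgroup.mem_centralizer_iff.mp (hZc hz)) g g.2

/-- Statement S1423 from S1403, S1404, S1412, S1414 and S1422. -/
theorem s1423_core {G : Type*} [Group G] [Finite G] (hG : Cfsg.IsMinSimpleOddOrder G)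
    (h1403 : ∀ (K : Subgroup G), K ≠ ⊤ → ¬ Cfsg.RankLE 1 K →
      (¬ Cfsg.RankLE 2 K ∨ ¬ Cfsg.RankLE 2 (Subgroup.centralizer (K : Set G))) →
        Cfsg.InUniqueMaximal K)
    (h1404 : ∀ (M : Subgroup G), IsCoatom M → ∀ (p : ℕ) [Fact p.Prime], p ∈ Cfsg.sigma M →
      ∀ X : Subgroup G, IsPGroup p X → X ≠ ⊥ → X ≤ M →
      ∀ g : G, X.map (MulAut.conj g).toMonoidHom ≤ M →
        ∃ m ∈ M, ∃ c ∈ Subgroup.centralizer (X : Set G), g = m * c)
    (h1412 : ∀ (p : ℕ) [Fact p.Prime] (P : Sylow p G), Cfsg.PRankLE p 2 (P : Subgroup G) →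
      IsMulCommutative (P : Subgroup G) ∨ ∃ P₁ P₂ : Subgroup G, P₁ ⊔ P₂ = (P : Subgroup G) ∧
        (∀ a ∈ P₁, ∀ b ∈ P₂, a * b = b * a) ∧
        ¬ IsMulCommutative P₁ ∧ Nat.card P₁ = p ^ 3 ∧ Monoid.exponent P₁ = p ∧ IsCyclic P₂ ∧
        Subgroup.closure {x : G | x ∈ P₂ ∧ x ^ p = 1} = P₁ ⊓ Subgroup.centralizer (P₁ : Set G))
    (h1414 : ∀ (M : Subgroup G), IsCoatom M → ∀ q : ℕ, q.Prime → q ∣ Nat.card M →
      q ∉ Cfsg.beta M →
        Cfsg.HasNormalPComplement q ↥⁅M, M⁆ ∧ Cfsg.HasNormalPComplement q ↥(Cfsg.sigmaCore M))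
    (h1422 : ∀ (p : ℕ) [Fact p.Prime] (P : Subgroup G), IsPGroup p P → ¬ IsMulCommutative P →
      Cfsg.InUniqueMaximal P)
    (M : Subgroup G) (hM : IsCoatom M) (p : ℕ) [Fact p.Prime] (hp : p ∈ Cfsg.sigma M)
    (X : Subgroup G) (hXM : X ≤ M) (hX : Nat.card X = p)
    (P : Sylow p ↥(Cfsg.sigmaCore M))
    (h : p ∈ Cfsg.beta M ∨ X ≤ ⁅Cfsg.sigmaCore M, Cfsg.sigmaCore M⁆) :
    (Subgroup.centralizer (X : Set G) ≤ M ∧
        ∀ L : Subgroup G, IsCoatom L → Subgroup.centralizer (X : Set G) ≤ L → L = M) ∧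
      Cfsg.InUniqueMaximal ((P : Subgroup ↥(Cfsg.sigmaCore M)).map (Cfsg.sigmaCore M).subtype) ∧
      (P : Subgroup ↥(Cfsg.sigmaCore M)).map (Cfsg.sigmaCore M).subtype ≤ M := by
  classical
  have hpp : p.Prime := Fact.out
  have hβσ : ∀ q : ℕ, q ∈ Cfsg.beta M → q ∈ Cfsg.sigma M := fun q hq =>
    Cfsg.Agent.Lib.Helper78.BG.alpha_subset_sigma hG h1403 M hM hq.1
  have hcompl : ∀ q : ℕ, q.Prime → q ∣ Nat.card M → q ∉ Cfsg.beta M →
      Cfsg.HasNormalPComplement q ↥⁅M, M⁆ := fun q a b c => (h1414 M hM q a b c).1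
  have hfus := h1404 M hM p hp
  obtain ⟨Pσ, hPσdef⟩ : ∃ Pσ : Subgroup G,
      Pσ = (P : Subgroup ↥(Cfsg.sigmaCore M)).map (Cfsg.sigmaCore M).subtype := ⟨_, rfl⟩
  rw [← hPσdef]
  have hPσ : IsSylowIn p Pσ (Cfsg.sigmaCore M) := hPσdef ▸ isSylowIn_of_sylow P
  have hPσM : IsSylowIn p Pσ M := isSylowIn_of_sigmaCore hG M hβσ hcompl p hp hfus hPσ
  have hXp : IsPGroup p X := IsPGroup.of_card (n := 1) (by rw [hX, pow_one])
  have hXne : X ≠ ⊥ := by
    intro h0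
    rw [h0, Subgroup.card_bot] at hX
    exact hpp.one_lt.ne hX
  have hXtop : X ≠ ⊤ := Cfsg.Agent.Lib.Helper9.BG.isPGroup_ne_top' hG hXp
  have hred : (∃ D : Subgroup G, D ≤ M ∧ Cfsg.InUniqueMaximal D ∧
      D ≤ Subgroup.centralizer (X : Set G)) →
      (Subgroup.centralizer (X : Set G) ≤ M ∧
        ∀ L : Subgroup G, IsCoatom L → Subgroup.centralizer (X : Set G) ≤ L → L = M) := by
    rintro ⟨D, hDM, hDU, hDC⟩
    have hCtop : Subgroup.centralizer (X : Set G) ≠ ⊤ := by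
      intro htop
      apply normalizer_ne_top hG hXne hXtop
      exact top_le_iff.mp (htop ▸ centralizer_le_normalizer' X)
    have huniq : ∀ L : Subgroup G, IsCoatom L → Subgroup.centralizer (X : Set G) ≤ L → L = M :=
      fun L hL hCL => eq_of_inUniqueMaximal hDU hM hDM hL (hDC.trans hCL)
    obtain ⟨L₀, hL₀, hCL₀⟩ := exists_coatom_ge hCtop
    exact ⟨(huniq L₀ hL₀ hCL₀) ▸ hCL₀, huniq⟩
  have hPσle : Pσ ≤ M := hPσM.1
  by_cases hβ : p ∈ Cfsg.beta M
  · obtain ⟨hα, hideal⟩ := hβ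
    have hrM : ¬ Cfsg.PRankLE p 2 ↥M := hα.2
    have hrank : ∀ R : Subgroup G, IsSylowIn p R M → ¬ Cfsg.PRankLE p 2 ↥R :=
      fun R hR hr => hrM (pRankLE_of_isSylowIn hR hr)
    refine ⟨hred ?_, rank3_unique hG h1403 p Pσ (sylIn_isPGroup hPσM) (hrank Pσ hPσM), hPσle⟩
    obtain ⟨R, hR, hXR⟩ := exists_isSylowIn_ge hXp hXM
    have hRp := sylIn_isPGroup hR
    by_cases hXZ : X ≤ Subgroup.centralizer (R : Set G)
    · exact ⟨R, hR.1, rank3_unique hG h1403 p R hRp (hrank R hR),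
        Subgroup.le_centralizer_iff.mp hXZ⟩
    · obtain ⟨Z₁, hZR, hZc, -, hAe, hAcard⟩ := exists_ea_sq_with_central hRp hXR hX hXZ
      obtain ⟨S, hS⟩ := exists_sylow_of_sigma hp hR
      have hAS : X ⊔ Z₁ ≤ (S : Subgroup G) := hS ▸ sup_le hXR hZR
      obtain ⟨B, hBS, hBe, hAB⟩ := hideal.2.2 S (X ⊔ Z₁) hAS hAe hAcard
      have hBcard : p ^ 2 < Nat.card B := hAcard ▸ card_lt_of_lt hAB
      have hBR : B ≤ R := hS ▸ hBS
      refine ⟨B, hBR.trans hR.1, ea_unique hG h1403 p B hBe hBcard, ?_⟩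
      intro b hb
      rw [Subgroup.mem_centralizer_iff]
      intro x hx
      exact Cfsg.Agent.Lib.Helper20.BG.ea_comm hBe x (hAB.le (Subgroup.mem_sup_left hx)) b hb
  · have hXc : X ≤ ⁅Cfsg.sigmaCore M, Cfsg.sigmaCore M⁆ := h.resolve_left hβ
    have hcσ : Cfsg.HasNormalPComplement p ↥(Cfsg.sigmaCore M) :=
      (h1414 M hM p hpp hp.2.1 hβ).2
    obtain ⟨Q, hQ, hXQ⟩ := exists_sylow_commutator_ge (Cfsg.sigmaCore M) p hcσ X hXp hXc
    have hQM : IsSylowIn p Q M := isSylowIn_of_sigmaCore hG M hβσ hcompl p hp hfus hQ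
    obtain ⟨S, hS⟩ := exists_sylow_of_sigma hp hQM
    have hXS : X ≤ ⁅(S : Subgroup G), (S : Subgroup G)⁆ := hS ▸ hXQ
    obtain ⟨D, hDS, hDU, hDC⟩ := exists_uniq_centralized hG h1403 h1412 h1422 p S X hX hXS
    have hDQ : D ≤ Q := hS ▸ hDS
    refine ⟨hred ⟨D, hDQ.trans hQM.1, hDU, hDC⟩, ?_, hPσle⟩
    apply h1422 p Pσ (sylIn_isPGroup hPσM)
    intro hcomm
    obtain ⟨g, -, hg⟩ := hPσ.exists_conj hQ
    have hQcomm : IsMulCommutative Q := by
      rw [hg]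
      infer_instance
    apply hXne
    rw [commutator_self_eq_bot_of_comm Q hQcomm] at hXQ
    exact le_bot_iff.mp hXQ

end Cfsg.Agent.Lib.Helper31.BG
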