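import Mathlib
import Cfsg.Prelude.Def_OddOrderLocal
import Cfsg.Agent.S1459
import Cfsg.Agent.Lib.Helper31.BG.SigmaHall
import Cfsg.Agent.Lib.Helper78.BG.S1405Core

/-!
Bender–Glauberman: for a complement `E` of `M_σ` in a maximal subgroup `M`,
`C_{M_σ}(E) ≤ (M_σ)'`, `[M_σ, E] = M_σ`, and for `g ∉ M` the intersection `M_σ ∩ M^g` is cyclic,
a `β(M)'`-group and meets `(M_σ)'` trivially (statement S1426).  Earlier statements of the chain
are hypotheses.
-/

set_option autoImplicit false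

namespace Cfsg.Agent.Lib.Helper31.BG

open Cfsg Cfsg.Agent.Lib.Helper46 Cfsg.Agent.Lib.Helper35.BG
open scoped commutatorElement

/-- A nontrivial `p`-subgroup `Y` of `M ∩ M^g`, `p ∈ σ(M)`, with `C_G(Y) ≤ M` forces `g ∈ M`. -/
theorem mem_of_centralizer_le {G : Type*} [Group G] [Finite G] (M : Subgroup G) (p : ℕ)
    [Fact p.Prime]
    (hfus : ∀ X : Subgroup G, IsPGroup p X → X ≠ ⊥ → X ≤ M →
      ∀ g : G, X.map (MulAut.conj g).toMonoidHom ≤ M →
        ∃ m ∈ M, ∃ c ∈ Subgroup.centralizer (X : Set G), g = m * c)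
    (Y : Subgroup G) (hYp : IsPGroup p Y) (hY1 : Y ≠ ⊥) (hYM : Y ≤ M) (g : G)
    (hYg : Y ≤ M.map (MulAut.conj g).toMonoidHom)
    (hC : Subgroup.centralizer (Y : Set G) ≤ M) : g ∈ M := by
  have hmap : Y.map (MulAut.conj g⁻¹).toMonoidHom ≤ M := by
    rintro _ ⟨y, hy, rfl⟩
    have h1 := mem_map_conj_iff.mp (hYg hy)
    simpa [MulAut.conj_apply] using h1
  obtain ⟨m, hm, c, hc, hgmc⟩ := hfus Y hYp hY1 hYM g⁻¹ hmap
  have h2 : g⁻¹ ∈ M := hgmc ▸ M.mul_mem hm (hC hc)
  simpa using M.inv_mem h2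

/-- Statement S1426 from S1403, S1404, S1414, S1420 and S1423. -/
theorem s1426_core {G : Type*} [Group G] [Finite G] (hG : Cfsg.IsMinSimpleOddOrder G)
    (h1403 : ∀ (K : Subgroup G), K ≠ ⊤ → ¬ Cfsg.RankLE 1 K →
      (¬ Cfsg.RankLE 2 K ∨ ¬ Cfsg.RankLE 2 (Subgroup.centralizer (K : Set G))) →
        Cfsg.InUniqueMaximal K)
    (h1404 : ∀ (M : Subgroup G), IsCoatom M → ∀ (p : ℕ) [Fact p.Prime], p ∈ Cfsg.sigma M →
      ∀ X : Subgroup G, IsPGroup p X → X ≠ ⊥ → X ≤ M →
      ∀ g : G, X.map (MulAut.conj g).toMonoidHom ≤ M →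
        ∃ m ∈ M, ∃ c ∈ Subgroup.centralizer (X : Set G), g = m * c)
    (h1414 : ∀ (M : Subgroup G), IsCoatom M → ∀ q : ℕ, q.Prime → q ∣ Nat.card M →
      q ∉ Cfsg.beta M → Cfsg.HasNormalPComplement q ↥⁅M, M⁆)
    (M : Subgroup G) (hM : IsCoatom M)
    (h1420 : ∀ (p : ℕ) (P : Subgroup G), p ∈ Cfsg.sigma M →
      IsPGroup p P → P ≤ M → ¬ IsCyclic P → Subgroup.normalizer (P : Set G) ≤ M)
    (h1423 : ∀ (p : ℕ) [Fact p.Prime], p ∈ Cfsg.sigma M →
      ∀ X : Subgroup G, X ≤ M → Nat.card X = p →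
      (p ∈ Cfsg.beta M ∨ X ≤ ⁅Cfsg.sigmaCore M, Cfsg.sigmaCore M⁆) →
        Subgroup.centralizer (X : Set G) ≤ M)
    (E : Subgroup G)
    (hE : Cfsg.IsComplIn E (Cfsg.sigmaCore M) M) :
    Cfsg.sigmaCore M ⊓ Subgroup.centralizer (E : Set G) ≤
        ⁅Cfsg.sigmaCore M, Cfsg.sigmaCore M⁆ ∧
      ⁅Cfsg.sigmaCore M, E⁆ = Cfsg.sigmaCore M ∧
      ∀ g : G, g ∉ M →
        IsCyclic ↥(Cfsg.sigmaCore M ⊓ M.map (MulAut.conj g).toMonoidHom) ∧
        (∀ p : ℕ, p.Prime →
          p ∣ Nat.card ↥(Cfsg.sigmaCore M ⊓ M.map (MulAut.conj g).toMonoidHom) →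
            p ∉ Cfsg.beta M) ∧
        Cfsg.sigmaCore M ⊓ M.map (MulAut.conj g).toMonoidHom ⊓
          ⁅Cfsg.sigmaCore M, Cfsg.sigmaCore M⁆ = ⊥ := by
  classical
  have hβσ : ∀ q : ℕ, q ∈ Cfsg.beta M → q ∈ Cfsg.sigma M := fun q hq =>
    Cfsg.Agent.Lib.Helper78.BG.alpha_subset_sigma hG h1403 M hM hq.1
  have hcompl := h1414 M hM
  have hfus := h1404 M hM
  obtain ⟨hEM, hσM, hEσ, hprod⟩ := hE
  have hsolv : Group.IsSolvable ↥M := isSolvable_of_ne_top hG hM.1
  -- the data inside `M`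
  obtain ⟨H, hHdef⟩ : ∃ H : Subgroup ↥M, H = Cfsg.piCore (Cfsg.sigma M) ↥M := ⟨_, rfl⟩
  have hHn : H.Normal := hHdef ▸ Cfsg.piCore_normal (Cfsg.sigma M) ↥M
  have hHmap : H.map M.subtype = Cfsg.sigmaCore M := by rw [hHdef]; rfl
  have hHsub : (Cfsg.sigmaCore M).subgroupOf M = H := by
    rw [← hHmap]
    exact Subgroup.comap_map_eq_self_of_injective M.subtype_injective H
  have hKmap : (E.subgroupOf M).map M.subtype = E := Subgroup.map_subgroupOf_eq_of_le hEM
  have hcop : (Nat.card H).Coprime H.index := by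
    have h1 := sigmaCore_coprime_index hG M hβσ hcompl hfus
    have h2 : Nat.card (Cfsg.sigmaCore M) = Nat.card H := by
      rw [← hHmap, Subgroup.card_map_of_injective M.subtype_injective]
    have h3 : (Cfsg.sigmaCore M).relIndex M = H.index := by
      unfold Subgroup.relIndex
      rw [hHsub]
    rwa [h2, h3] at h1
  have hcomplement : Subgroup.IsComplement' H (E.subgroupOf M) := by
    apply Subgroup.isComplement'_of_disjoint_and_mul_eq_univ
    · rw [disjoint_iff]
      rw [eq_bot_iff]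
      intro x hx
      have h1 : (x : G) ∈ E ⊓ Cfsg.sigmaCore M := by
        refine ⟨Subgroup.mem_subgroupOf.mp hx.2, ?_⟩
        rw [← hHmap]
        exact ⟨x, hx.1, rfl⟩
      rw [hEσ, Subgroup.mem_bot] at h1
      rw [Subgroup.mem_bot]
      exact Subtype.ext h1
    · rw [Set.eq_univ_iff_forall]
      intro m
      obtain ⟨a, ha, b, hb, hab⟩ := hprod (m⁻¹ : ↥M) (m⁻¹ : ↥M).2
      rw [← hHmap] at hb
      obtain ⟨b', hb', hbb'⟩ := hb
      refine Set.mem_mul.mpr ⟨b'⁻¹, H.inv_mem hb', ⟨a⁻¹, M.inv_mem (hEM ha)⟩, ?_, ?_⟩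
      · rw [SetLike.mem_coe, Subgroup.mem_subgroupOf]
        exact E.inv_mem ha
      · apply Subtype.ext
        show (b' : G)⁻¹ * a⁻¹ = (m : G)
        have hbb'' : (b' : G) = b := hbb'
        rw [hbb'']
        have h1 : ((m : G))⁻¹ = a * b := hab
        calc b⁻¹ * a⁻¹ = (a * b)⁻¹ := by group
          _ = (m : G) := by rw [← h1, inv_inv]
  have hHle : H ≤ commutator ↥M := by
    intro x hx
    have h1 : (x : G) ∈ ⁅M, M⁆ := by
      apply sigmaCore_le_commutator hG M hfus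
      rw [← hHmap]
      exact ⟨x, hx, rfl⟩
    rw [← Subgroup.map_subtype_commutator] at h1
    obtain ⟨y, hy, hyx⟩ := h1
    have : y = x := Subtype.ext hyx
    rwa [← this]
  obtain ⟨h59a, h59b⟩ := (Cfsg.Agent.S1459.result (G := ↥M)).1 H (E.subgroupOf M) hHn hcop
    hcomplement hHle
  refine ⟨?_, ?_, ?_⟩
  · rintro x ⟨hxσ, hxE⟩
    rw [← hHmap] at hxσ
    obtain ⟨x', hx', rfl⟩ := hxσ
    have hx'c : x' ∈ Subgroup.centralizer ((E.subgroupOf M : Subgroup ↥M) : Set ↥M) := by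
      rw [Subgroup.mem_centralizer_iff]
      intro k hk
      apply Subtype.ext
      exact (Subgroup.mem_centralizer_iff.mp hxE) k (Subgroup.mem_subgroupOf.mp hk)
    have h1 := h59b ⟨hx', hx'c⟩
    rw [← hHmap, ← Subgroup.map_commutator]
    exact ⟨x', h1, rfl⟩
  · rw [← hHmap, ← hKmap, ← Subgroup.map_commutator, ← h59a]
  · intro g hg
    obtain ⟨D, hDdef⟩ : ∃ D : Subgroup G,
        D = Cfsg.sigmaCore M ⊓ M.map (MulAut.conj g).toMonoidHom := ⟨_, rfl⟩
    rw [← hDdef]
    have hDσ : D ≤ Cfsg.sigmaCore M := hDdef ▸ inf_le_left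
    have hDg : D ≤ M.map (MulAut.conj g).toMonoidHom := hDdef ▸ inf_le_right
    have hDM : D ≤ M := hDσ.trans hσM
    -- a subgroup of prime order of `D` with centralizer in `M` is impossible
    have hkey : ∀ (p : ℕ) [Fact p.Prime] (X : Subgroup G), X ≤ D → Nat.card X = p →
        (p ∈ Cfsg.beta M ∨ X ≤ ⁅Cfsg.sigmaCore M, Cfsg.sigmaCore M⁆) → False := by
      intro p _ X hXD hX hor
      have hpp : p.Prime := Fact.out
      have hpσ : p ∈ Cfsg.sigma M := by
        apply sigmaCore_isPi M p hpp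
        rw [← hX]
        exact Subgroup.card_dvd_of_le (hXD.trans hDσ)
      have hXp : IsPGroup p X := IsPGroup.of_card (n := 1) (by rw [hX, pow_one])
      have hXne : X ≠ ⊥ := by
        intro h0
        rw [h0, Subgroup.card_bot] at hX
        exact hpp.one_lt.ne hX
      have hC := h1423 p hpσ X (hXD.trans hDM) hX hor
      exact hg (mem_of_centralizer_le M p (hfus p hpσ) X hXp hXne (hXD.trans hDM) g
        (hXD.trans hDg) hC)
    -- subgroups of prime order
    have hcauchy : ∀ (p : ℕ) [Fact p.Prime] (Y : Subgroup G), p ∣ Nat.card Y →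
        ∃ X : Subgroup G, X ≤ Y ∧ Nat.card X = p := by
      intro p _ Y hdvd
      obtain ⟨y, hy⟩ := exists_prime_orderOf_dvd_card' p hdvd
      refine ⟨Subgroup.zpowers (y : G), Subgroup.zpowers_le.mpr y.2, ?_⟩
      rw [Nat.card_zpowers, Subgroup.orderOf_coe, hy]
    have hc3 : D ⊓ ⁅Cfsg.sigmaCore M, Cfsg.sigmaCore M⁆ = ⊥ := by
      by_contra hne
      have hcard : Nat.card ↥(D ⊓ ⁅Cfsg.sigmaCore M, Cfsg.sigmaCore M⁆) ≠ 1 :=
        fun h => hne (Subgroup.card_eq_one.mp h)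
      obtain ⟨p, hp, hdvd⟩ := Nat.exists_prime_and_dvd hcard
      have hpf : Fact p.Prime := ⟨hp⟩
      obtain ⟨X, hXle, hX⟩ := hcauchy p _ hdvd
      exact hkey p X (hXle.trans inf_le_left) hX (Or.inr (hXle.trans inf_le_right))
    refine ⟨?_, ?_, hc3⟩
    · -- cyclic
      have hcomm : ∀ a ∈ D, ∀ b ∈ D, a * b = b * a := by
        intro a ha b hb
        have h1 : ⁅a, b⁆ ∈ D ⊓ ⁅Cfsg.sigmaCore M, Cfsg.sigmaCore M⁆ :=
          ⟨by
            rw [commutatorElement_def]
            exact D.mul_mem (D.mul_mem (D.mul_mem ha hb) (D.inv_mem ha)) (D.inv_mem hb),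
           Subgroup.commutator_mem_commutator (hDσ ha) (hDσ hb)⟩
        rw [hc3, Subgroup.mem_bot] at h1
        exact commutatorElement_eq_one_iff_mul_comm.mp h1
      have hnil : Group.IsNilpotent ↥D := by
        let _ : CommGroup ↥D :=
          { (inferInstance : Group ↥D) with
            mul_comm := fun a b => Subtype.ext (hcomm a a.2 b b.2) }
        exact CommGroup.isNilpotent
      have hZ : IsZGroup ↥D := by
        refine ⟨fun p hp P => ?_⟩
        have hpf : Fact p.Prime := ⟨hp⟩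
        by_contra hnc
        have hYp : IsPGroup p ((P : Subgroup ↥D).map D.subtype) := P.isPGroup'.map _
        have hYD : (P : Subgroup ↥D).map D.subtype ≤ D := Subgroup.map_subtype_le _
        have hYnc : ¬ IsCyclic ↥((P : Subgroup ↥D).map D.subtype) := by
          intro hc
          apply hnc
          exact isCyclic_of_surjective
            (Subgroup.equivMapOfInjective (P : Subgroup ↥D) D.subtype D.subtype_injective).symm
            (MulEquiv.surjective _)
        have hYne : (P : Subgroup ↥D).map D.subtype ≠ ⊥ := by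
          intro h0
          apply hYnc
          rw [h0]
          exact isCyclic_of_subsingleton
        have hpσ : p ∈ Cfsg.sigma M := by
          apply sigmaCore_isPi M p hp
          have hcard : Nat.card ↥((P : Subgroup ↥D).map D.subtype) ≠ 1 :=
            fun h => hYne (Subgroup.card_eq_one.mp h)
          obtain ⟨n, hn⟩ := IsPGroup.iff_card.mp hYp
          have hn0 : n ≠ 0 := by
            rintro rfl
            exact hcard (by rw [hn, pow_zero])
          have hdvd : p ∣ Nat.card ↥((P : Subgroup ↥D).map D.subtype) := by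
            rw [hn]; exact dvd_pow_self p hn0
          exact hdvd.trans (Subgroup.card_dvd_of_le (hYD.trans hDσ))
        have hN := h1420 p _ hpσ hYp (hYD.trans hDM) hYnc
        exact hg (mem_of_centralizer_le M p (hfus p hpσ) _ hYp hYne (hYD.trans hDM) g
          (hYD.trans hDg) ((centralizer_le_normalizer' _).trans hN))
      infer_instance
    · intro p hp hdvd hβ
      have hpf : Fact p.Prime := ⟨hp⟩
      obtain ⟨X, hXle, hX⟩ := hcauchy p D hdvd
      exact hkey p X hXle hX (Or.inl hβ)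

end Cfsg.Agent.Lib.Helper31.BG
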